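import Cfsg.Agent.H411.Sz.Frame

/-!
# Lemma E4a of the orthogonal case of Szep's conjecture in characteristic two (helper411, for S2273)
-/

set_option autoImplicit false
set_option linter.unusedSectionVars false

namespace Cfsg.Agent.H411.Sz

open Module QuadraticMap Cfsg.Agent.LieClassical.OrthCore Cfsg.Agent.LieClassical.OrthTrans
  Cfsg.Agent.LieClassical.OrthSimple Cfsg.Agent.H105.Sz

variable {K V : Type*} [Field K] [CharP K 2] [AddCommGroup V] [Module K V] {Q : QuadraticForm K V}

/-- `nsum` as a linear map -/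
noncomputable def nL (Q : QuadraticForm K V) {k : ℕ} (p q : Fin k → V) : V →ₗ[K] V where
  toFun := nsum Q p q
  map_add' x y := by
    rw [nsum, nsum, nsum, ← Finset.sum_add_distrib]
    refine Finset.sum_congr rfl fun i _ => ?_
    rw [polar_add_left, polar_add_left]
    module
  map_smul' c x := by
    rw [nsum, nsum, Finset.smul_sum]
    refine Finset.sum_congr rfl fun i _ => ?_
    rw [polar_smul_left, polar_smul_left, smul_eq_mul, smul_eq_mul, RingHom.id_apply]
    module

theorem nL_apply {k : ℕ} (p q : Fin k → V) (v : V) : nL Q p q v = nsum Q p q v := rfl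

theorem nsum_zero {k : ℕ} {p q : Fin k → V} {y : V} (h1 : ∀ i, polar Q y (p i) = 0)
    (h2 : ∀ i, polar Q y (q i) = 0) : nsum Q p q y = 0 := by
  rw [nsum]
  exact Finset.sum_eq_zero fun i _ => by rw [h1, h2, zero_smul, zero_smul, add_zero]

theorem nsum_single {k : ℕ} {p q : Fin k → V} {y : V} (j : Fin k) (h1 : ∀ i, polar Q y (p i) = 0)
    (h2 : ∀ i, polar Q y (q i) = if i = j then 1 else 0) : nsum Q p q y = p j := by
  rw [nsum, Finset.sum_eq_single j]
  · rw [h1, h2, zero_smul, if_pos rfl, one_smul, zero_add]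
  · intro i _ hi
    rw [h1, h2, if_neg hi, zero_smul, zero_smul, add_zero]
  · intro h; exact absurd (Finset.mem_univ j) h

/-- the products of a family of frames -/
structure FF (Q : QuadraticForm K V) (b : V ≃ₗ[K] V) {k : ℕ} (u w : Fin k → V) : Prop where
  Qu : ∀ i, Q (u i) = 0
  Qb : ∀ i, Q (b (u i)) = 0
  Qw : ∀ i, Q (w i) = 0
  uu : ∀ i j, polar Q (u i) (u j) = 0
  ubu : ∀ i j, polar Q (u i) (b (u j)) = 0
  bubu : ∀ i j, polar Q (b (u i)) (b (u j)) = 0
  uw : ∀ i j, polar Q (u i) (w j) = 0
  buw : ∀ i j, polar Q (b (u i)) (w j) = if i = j then 1 else 0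
  ubw : ∀ i j, polar Q (u i) (b (w j)) = if i = j then 1 else 0
  bubw : ∀ i j, polar Q (b (u i)) (b (w j)) = 0
  ww : ∀ i j, polar Q (w i) (w j) = 0
  wbw : ∀ i j, polar Q (w i) (b (w j)) = 0
  bwbw : ∀ i j, polar Q (b (w i)) (b (w j)) = 0

theorem FF.mk' {b : V ≃ₗ[K] V} {d : K} (B : BD Q b d) {k : ℕ} {u w : Fin k → V}
    (h1 : ∀ i, Fr Q b (u i) (w i)) (h2 : ∀ i j, i ≠ j → Ort Q b (u i) (w i) (u j) (w j)) :
    FF Q b u w := by
  have uu : ∀ i j, polar Q (u i) (u j) = 0 := by
    intro i j
    by_cases h : i = j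
    · subst h; exact pol_self _
    · exact (h2 i j h).uu
  have uw : ∀ i j, polar Q (u i) (w j) = 0 := by
    intro i j
    by_cases h : i = j
    · subst h; exact (h1 i).uw
    · exact (h2 i j h).uw
  have ww : ∀ i j, polar Q (w i) (w j) = 0 := by
    intro i j
    by_cases h : i = j
    · subst h; exact pol_self _
    · exact (h2 i j h).ww
  refine ⟨fun i => (h1 i).Qu, fun i => by rw [mem_O.1 B.mem]; exact (h1 i).Qu, fun i => (h1 i).Qw, uu,
    ?_, fun i j => by rw [B.pmap, uu], uw, ?_, ?_, fun i j => by rw [B.pmap, uw], ww, ?_,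
    fun i j => by rw [B.pmap, ww]⟩
  · intro i j
    by_cases h : i = j
    · subst h; exact (h1 i).ubu B
    · exact (h2 i j h).ubu
  · intro i j
    by_cases h : i = j
    · subst h; rw [if_pos rfl]; exact (h1 i).buw
    · rw [if_neg h, polar_comm]; exact (h2 j i (Ne.symm h)).wbu
  · intro i j
    by_cases h : i = j
    · subst h; rw [if_pos rfl]; exact (h1 i).ubw B
    · rw [if_neg h]; exact (h2 i j h).ubw
  · intro i j
    by_cases h : i = j
    · subst h; exact (h1 i).wbw B
    · exact (h2 i j h).wbw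

namespace FF

variable {b : V ≃ₗ[K] V} {d : K} {k : ℕ} {u w : Fin k → V} (F : FF Q b u w)
include F

theorem buu (i j : Fin k) : polar Q (b (u i)) (u j) = 0 := by rw [polar_comm]; exact F.ubu j i
theorem wu (i j : Fin k) : polar Q (w i) (u j) = 0 := by rw [polar_comm]; exact F.uw j i
theorem wbu (i j : Fin k) : polar Q (w i) (b (u j)) = if j = i then 1 else 0 := by
  rw [polar_comm]; exact F.buw j i
theorem bwu (i j : Fin k) : polar Q (b (w i)) (u j) = if j = i then 1 else 0 := by
  rw [polar_comm]; exact F.ubw j i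
theorem bwbu (i j : Fin k) : polar Q (b (w i)) (b (u j)) = 0 := by rw [polar_comm]; exact F.bubw j i
theorem bww (i j : Fin k) : polar Q (b (w i)) (w j) = 0 := by rw [polar_comm]; exact F.wbw j i

theorem ts : TS Q u (fun i => b (u i)) := ⟨F.Qu, F.Qb, F.uu, F.ubu, F.bubu⟩

theorem du : Du Q u (fun i => b (u i)) w (fun i => b (w i)) := ⟨F.uw, F.ubw, F.buw, F.bubw⟩

/-- `1 + nsum u bu` commutes with `b` -/
theorem nsum_comm (B : BD Q b d) (v : V) :
    nsum Q u (fun i => b (u i)) (b v) = b (nsum Q u (fun i => b (u i)) v) := by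
  rw [nsum, nsum, map_sum]
  refine Finset.sum_congr rfl fun i _ => ?_
  rw [map_add, map_smul, map_smul, B.bb, B.pmap, B.pl]
  module

end FF

/-- the twisted pair -/
theorem twist [FiniteDimensional K V] (hQ : Nondeg Q) [Nontrivial V] {a b : V ≃ₗ[K] V} {d : K}
    (B : BD Q b d) {k : ℕ}
    {u w : Fin k → V} (F : FF Q b u w) {i0 i1 : Fin k} (hi : i0 ≠ i1) (hab : PBad (E Q) a b)
    (ha : ∀ v, a v = v + nsum Q u (fun i => if i = i1 then w i1 else b (u i)) v) : False := by
  set q : Fin k → V := fun i => if i = i1 then w i1 else b (u i) with hq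
  have hqi : ∀ i, i ≠ i1 → q i = b (u i) := fun i h => if_neg h
  have hq1 : q i1 = w i1 := if_pos rfl
  have hi' : i1 ≠ i0 := Ne.symm hi
  -- the isometry
  have hX : Q (b (u i0) + u i1) = 0 := by rw [Q_add, F.Qb, F.Qu, F.buu]; simp
  have hY : Q (w i0 + b (w i1)) = 0 := by
    rw [Q_add, F.Qw, mem_O.1 B.mem, F.Qw, F.wbw]; simp
  have hXY : polar Q (b (u i0) + u i1) (w i0 + b (w i1)) = 0 := by
    rw [polar_add_left, polar_add_right, polar_add_right, F.buw, F.bubw, F.uw, F.ubw, if_pos rfl,
      if_pos rfl, add_zero, zero_add]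
    exact dbl K 1
  set g := siegel Q _ _ hX hXY with hg
  have hgE : g ∈ E Q := siegel_mem_E hX hXY
  have hga : ∀ v, g v = v + (polar Q (b (u i0)) v + polar Q (u i1) v) • (w i0 + b (w i1)) -
      (polar Q (w i0) v + polar Q (b (w i1)) v) • (b (u i0) + u i1) := by
    intro v
    rw [hg, siegel_apply, hY, zero_mul, zero_smul, sub_zero, polar_add_left, polar_add_left]
  have hgu : ∀ i, g (u i) = if i = i1 then b (u i0) else u i := by
    intro i
    rw [hga, F.buu, F.uu, F.wu, F.bwu]
    by_cases h : i = i1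
    · rw [if_pos h, if_pos h, h, add_zero, zero_smul, add_zero, zero_add, one_smul, sub' K, ← add_assoc,
        add_right_comm, dbl K, zero_add]
    · rw [if_neg h, if_neg h]; simp
  have hgq : ∀ i, g (q i) = if i = i0 then u i1 else q i := by
    intro i
    by_cases h : i = i1
    · rw [h, if_neg hi', hq1, hga, F.buw, F.uw, F.ww, F.bww, if_neg hi]
      simp
    · rw [hqi i h, hga, F.bubu, F.ubu, F.wbu, F.bwbu]
      by_cases h' : i = i0
      · rw [if_pos h', if_pos h', h', add_zero, zero_smul, add_zero, add_zero, one_smul, sub' K,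
          ← add_assoc, dbl K, zero_add]
      · rw [if_neg h', if_neg h']; simp
  have hginv : ∀ v, g (g⁻¹ v) = v := fun v => g.apply_symm_apply v
  -- the key
  obtain ⟨x, hx, ⟨c, hc0, hc⟩, e, he0, he⟩ := hab.key (g := g⁻¹) ((E Q).inv_mem hgE)
  have hc1 : c = 1 := scal_one hQ (f := fun v => a (x v)) (g := fun v => x (a v)) hc
    (fun v => by rw [mem_O.1 (E_le_O hab.1), mem_O.1 (E_le_O hx)])
    (fun v => by rw [mem_O.1 (E_le_O hx), mem_O.1 (E_le_O hab.1)])
  have hnx : ∀ v, nsum Q u q (x v) = x (nsum Q u q v) := by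
    intro v
    have h1 := hc v
    rw [hc1, one_smul, ha, ha, map_add] at h1
    exact add_left_cancel h1
  have hbg : ∀ v, b (g (x v)) = e • g (x (b v)) := by
    intro v
    have h1 := he v
    rw [inv_inv] at h1
    rw [← hginv (b (g (x v))), h1, map_smul]
  have hnu : nsum Q u q (b (u i1)) = u i1 := by
    refine nsum_single i1 (fun i => F.buu _ _) fun i => ?_
    by_cases h : i = i1
    · rw [h, hq1, F.buw]
    · rw [hqi i h, F.bubu, if_neg h]
  -- the nilpotent map
  set p3 : Fin k → V := fun i => g (u i) with hp3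
  set q3 : Fin k → V := fun i => g (q i) with hq3
  have hp3' : ∀ i, p3 i = if i = i1 then b (u i0) else u i := hgu
  have hq3' : ∀ i, q3 i = if i = i0 then u i1 else q i := hgq
  let T : V →ₗ[K] V := nL Q p3 q3 ∘ₗ b.toLinearMap
  have hT : ∀ v, T v = nsum Q p3 q3 (b v) := fun v => rfl
  have hTy : T (g (x (u i1))) = e • g (x (u i1)) := by
    rw [hT, hbg, ← nL_apply, map_smul, nL_apply]
    have h1 := nsum_map (Q := Q) (p := u) (q := q) (E_le_O hgE) (x (b (u i1)))
    rw [← h1, hnx, hnu]
  -- products with the new families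
  have b0 : ∀ i, nsum Q p3 q3 (b (u i)) = if i = i1 then b (u i0) else 0 := by
    intro i
    by_cases h : i = i1
    · rw [h, if_pos rfl]
      have h1 : nsum Q p3 q3 (b (u i1)) = p3 i1 := by
        refine nsum_single i1 (fun j => ?_) fun j => ?_
        · rw [hp3']
          by_cases h' : j = i1
          · rw [if_pos h', F.bubu]
          · rw [if_neg h', F.buu]
        · rw [hq3']
          by_cases h' : j = i0
          · rw [if_pos h', F.buu, h', if_neg hi]
          · rw [if_neg h']
            by_cases h'' : j = i1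
            · rw [h'', hq1, F.buw]
            · rw [hqi j h'', F.bubu, if_neg h'']
      rw [h1, hp3', if_pos rfl]
    · rw [if_neg h]
      refine nsum_zero (fun j => ?_) fun j => ?_
      · rw [hp3']
        by_cases h' : j = i1
        · rw [if_pos h', F.bubu]
        · rw [if_neg h', F.buu]
      · rw [hq3']
        by_cases h' : j = i0
        · rw [if_pos h', F.buu]
        · rw [if_neg h']
          by_cases h'' : j = i1
          · rw [h'', hq1, F.buw, if_neg h]
          · rw [hqi j h'', F.bubu]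
  have u0 : ∀ i, nsum Q p3 q3 (u i) = 0 := by
    intro i
    refine nsum_zero (fun j => ?_) fun j => ?_
    · rw [hp3']
      by_cases h' : j = i1
      · rw [if_pos h', F.ubu]
      · rw [if_neg h', F.uu]
    · rw [hq3']
      by_cases h' : j = i0
      · rw [if_pos h', F.uu]
      · rw [if_neg h']
        by_cases h'' : j = i1
        · rw [h'', hq1, F.uw]
        · rw [hqi j h'', F.ubu]
  have bw1 : nsum Q p3 q3 (b (w i1)) = u i0 := by
    have h1 : nsum Q p3 q3 (b (w i1)) = p3 i0 := by
      refine nsum_single i0 (fun j => ?_) fun j => ?_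
      · rw [hp3']
        by_cases h' : j = i1
        · rw [if_pos h', F.bwbu]
        · rw [if_neg h', F.bwu, if_neg h']
      · rw [hq3']
        by_cases h' : j = i0
        · rw [if_pos h', if_pos h', F.bwu, if_pos rfl]
        · rw [if_neg h', if_neg h']
          by_cases h'' : j = i1
          · rw [h'', hq1, F.bww]
          · rw [hqi j h'', F.bwbu]
    rw [h1, hp3', if_neg hi]
  have Tu : ∀ i, T (u i) = if i = i1 then b (u i0) else 0 := fun i => by rw [hT, b0]
  have Tb : ∀ i, i ≠ i1 → T (b (u i)) = 0 := by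
    intro i h
    rw [hT, B.bb, ← nL_apply, map_add, map_smul, nL_apply, nL_apply, b0, if_neg h, u0, smul_zero,
      add_zero]
  have Tw : T (w i1) = u i0 := by rw [hT, bw1]
  have TTp : ∀ i, T (T (p3 i)) = 0 := by
    intro i
    rw [hp3']
    by_cases h : i = i1
    · rw [if_pos h, Tb i0 hi, map_zero]
    · rw [if_neg h, Tu, if_neg h, map_zero]
  have TTq : ∀ i, T (T (q3 i)) = 0 := by
    intro i
    rw [hq3']
    by_cases h : i = i0
    · rw [if_pos h, Tu, if_pos rfl, Tb i0 hi]
    · rw [if_neg h]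
      by_cases h' : i = i1
      · rw [h', hq1, Tw, Tu, if_neg hi]
      · rw [hqi i h', Tb i h', map_zero]
  have TTT : ∀ v, T (T (T v)) = 0 := by
    intro v
    rw [hT v, nsum, map_sum, map_sum]
    refine Finset.sum_eq_zero fun i _ => ?_
    rw [map_add, map_add, map_smul, map_smul, map_smul, map_smul, TTp, TTq, smul_zero, smul_zero,
      add_zero]
  have hfin := TTT (g (x (u i1)))
  rw [hTy, map_smul, hTy, map_smul, map_smul, hTy, smul_smul, smul_smul] at hfin
  rcases smul_eq_zero.1 hfin with h | h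
  · exact mul_ne_zero (mul_ne_zero he0 he0) he0 h
  · rw [LinearEquiv.map_eq_zero_iff, LinearEquiv.map_eq_zero_iff] at h
    have := F.ubw i1 i1
    rw [h, polar_zero_left, if_pos rfl] at this
    exact zero_ne_one this

theorem a_form {a : V ≃ₗ[K] V} {g : V ≃ₗ[K] V} (hg : g ∈ O Q) {k : ℕ} {p q : Fin k → V}
    (ha : ∀ v, a v = v + nsum Q p q v) (v : V) :
    (g * a * g⁻¹) v = v + nsum Q (fun i => g (p i)) (fun i => g (q i)) v := by
  have h1 : g (g⁻¹ v) = v := g.apply_symm_apply v
  have h2 : (g * a * g⁻¹) v = g (a (g⁻¹ v)) := rfl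
  rw [h2, ha, map_add, nsum_map hg, h1]

theorem core [Finite K] [FiniteDimensional K V] (hQ : Nondeg Q) (hn : 8 ≤ finrank K V)
    {a b : V ≃ₗ[K] V} (hab : PBad (E Q) a b) {d : K} (ha : a ≠ 1) (hb : b ≠ 1) (hac : a * a = 1)
    (B : BD Q b d) (haQ : ∀ v, polar Q (a v) v = 0)
    (hle : d = 0 → finrank K (LinearMap.range (a.toLinearMap + LinearMap.id)) ≤
      finrank K (LinearMap.range (b.toLinearMap + LinearMap.id))) : False := by
  have hG := Cfsg.Agent.LieClassical.OrthFinite.good_of_finite hQ (by omega)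
  have hV : Nontrivial V := nontrivial_of_finrank_pos (by omega : 0 < finrank K V)
  have haO : a ∈ O Q := E_le_O hab.1
  have haa : ∀ v, a (a v) = v := fun v => by
    have := congrArg (fun S : V ≃ₗ[K] V => S v) hac
    exact this
  let s : V →ₗ[K] V := a.toLinearMap + LinearMap.id
  have hs : ∀ v, s v = a v + v := fun v => rfl
  have hsalt : ∀ v, polar Q (s v) v = 0 := by
    intro v
    rw [hs, polar_add_left, haQ, pol_self, add_zero]
  obtain ⟨k, p, q, x, y, h1, h2, h3, h4⟩ := exists_decomp hQ _ s rfl hsalt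
  have hrank := rank_eq h1 h2 h3 h4
  have haform : ∀ v, a v = v + nsum Q p q v := by
    intro v
    rw [← h1, hs, add_comm v, add_assoc, dbl K, add_zero]
  have hss : ∀ v, s (s v) = 0 := by
    intro v
    rw [hs, hs, map_add, haa, add_comm v, dbl K]
  have hQs : ∀ v, Q (s v) = 0 := by
    intro v
    rw [hs, Q_add, mem_O.1 haO, haQ, add_zero]
    exact dbl K _
  have hss' : ∀ v w, polar Q (s v) (s w) = 0 := by
    intro v w
    rw [adj_of_alt hsalt, hss, polar_zero_right]
  have hts : TS Q p q := by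
    refine ⟨fun i => ?_, fun i => ?_, fun i j => ?_, fun i j => ?_, fun i j => ?_⟩
    · obtain ⟨z, hz⟩ := h3 i; rw [← hz, hQs]
    · obtain ⟨z, hz⟩ := h4 i; rw [← hz, hQs]
    · obtain ⟨z, hz⟩ := h3 i; obtain ⟨z', hz'⟩ := h3 j; rw [← hz, ← hz', hss']
    · obtain ⟨z, hz⟩ := h3 i; obtain ⟨z', hz'⟩ := h4 j; rw [← hz, ← hz', hss']
    · obtain ⟨z, hz⟩ := h4 i; obtain ⟨z', hz'⟩ := h4 j; rw [← hz, ← hz', hss']
  have hk4 : 4 * k ≤ finrank K V := by
    have h5 := LinearMap.finrank_range_add_finrank_ker s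
    have h6 : LinearMap.range s ≤ LinearMap.ker s := by
      rintro _ ⟨v, rfl⟩
      exact hss v
    have h7 := Submodule.finrank_mono h6
    omega
  have I : Inv Q b ⊤ := ⟨fun _ _ => trivial, fun x _ h => hQ x fun y => h y trivial⟩
  obtain ⟨u, w, -, hF, hO⟩ := frames B k ⊤ I (fun _ => by rw [finrank_top]; exact hk4) (fun hd => by
    rw [Submodule.map_top]
    have := hle hd
    have h8 : finrank K (LinearMap.range (a.toLinearMap + LinearMap.id)) = 2 * k := hrank
    omega)
  have F : FF Q b u w := FF.mk' B hF hO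
  obtain ⟨g, hg, hgpq⟩ := exists_move hQ hts h2 F.ts F.du
  have hgp : (fun i => g (p i)) = u := funext fun i => (hgpq i).1
  have hgq : (fun i => g (q i)) = fun i => b (u i) := funext fun i => (hgpq i).2
  -- if `a` is conjugate in `E Q` to `1 + nsum u bu`
  have good : ∀ h : V ≃ₗ[K] V, h ∈ E Q →
      (∀ v, (h * a * h⁻¹) v = v + nsum Q u (fun i => b (u i)) v) → False := by
    intro h hh hform
    have hab' := hab.conj_left hh
    refine comm_false hG hab' (fun h0 => ha ?_) hb fun v => ?_
    · rw [mul_inv_eq_one] at h0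
      exact mul_left_cancel (h0.trans (mul_one h).symm)
    · rw [hform, hform, map_add, F.nsum_comm B]
  have hform : ∀ v, (g * a * g⁻¹) v = v + nsum Q u (fun i => b (u i)) v := by
    intro v
    rw [a_form hg haform, hgp, hgq]
  have hor : ∀ (z : V) (hz : Q z ≠ 0), refl Q z hz * g ∈ E Q := by
    intro z hz
    exact (O_or hG hz hg).resolve_left fun h => good g h hform
  have hform' : ∀ (z : V) (hz : Q z ≠ 0) (v : V),
      (refl Q z hz * g * a * (refl Q z hz * g)⁻¹) v =
        v + nsum Q (fun i => refl Q z hz (u i)) (fun i => refl Q z hz (b (u i))) v := by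
    intro z hz v
    have e : refl Q z hz * g * a * (refl Q z hz * g)⁻¹ =
        refl Q z hz * (g * a * g⁻¹) * (refl Q z hz)⁻¹ := by group
    rw [e, a_form (refl_mem_O hz) hform]
  have hfix : ∀ (z : V) (hz : Q z ≠ 0) (v : V), polar Q z v = 0 → refl Q z hz v = v := by
    intro z hz v h
    rw [refl_apply, h, mul_zero, zero_smul, sub_zero]
  rcases Nat.lt_or_ge k 2 with hk | hk
  · -- at most one pair
    have : ∃ z, Q z ≠ 0 ∧ ∀ i, polar Q z (u i) = 0 ∧ polar Q z (b (u i)) = 0 := by
      obtain ⟨U, hU1, hU2, hU3⟩ : ∃ U : Submodule K V, (∀ x ∈ U, (∀ y ∈ U, polar Q x y = 0) → x = 0) ∧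
          0 < finrank K U ∧ ∀ z ∈ U, ∀ i, polar Q z (u i) = 0 ∧ polar Q z (b (u i)) = 0 := by
        interval_cases k
        · exact ⟨⊤, I.nd, by rw [finrank_top]; omega, fun z _ i => i.elim0⟩
        · refine ⟨comp Q b ⊤ (u 0) (w 0), (inv_comp B I trivial trivial (hF 0)).nd, ?_, ?_⟩
          · have := finrank_comp (Q := Q) b ⊤ (u 0) (w 0)
            rw [finrank_top] at this
            omega
          · intro z hz i
            rw [mem_comp] at hz
            have hi : i = 0 := Subsingleton.elim _ _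
            rw [hi, polar_comm Q z, polar_comm Q z]
            exact ⟨hz.2.1, hz.2.2.1⟩
      have hne : U ≠ ⊥ := by
        rintro rfl
        rw [finrank_bot] at hU2
        exact lt_irrefl _ hU2
      obtain ⟨x0, hx0, hx00⟩ := U.ne_bot_iff.1 hne
      have : ∃ z ∈ U, Q z ≠ 0 := by
        by_contra hcon
        push Not at hcon
        refine hx00 (hU1 x0 hx0 fun y hy => ?_)
        rw [polar, hcon _ (U.add_mem hx0 hy), hcon _ hx0, hcon _ hy]
        simp
      obtain ⟨z, hz, hQz⟩ := this
      exact ⟨z, hQz, hU3 z hz⟩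
    obtain ⟨z, hz, hzu⟩ := this
    refine good _ (hor z hz) fun v => ?_
    rw [hform']
    congr 2
    · funext i
      exact hfix z hz _ (hzu i).1
    · funext i
      exact hfix z hz _ (hzu i).2
  · let i0 : Fin k := ⟨0, by omega⟩
    let i1 : Fin k := ⟨1, by omega⟩
    have hi : i0 ≠ i1 := by
      intro h
      have h' : (0 : ℕ) = 1 := congrArg Fin.val h
      exact absurd h' (by decide)
    have hQz : Q (b (u i1) + w i1) = 1 := by
      rw [Q_add, F.Qb, F.Qw, F.buw, if_pos rfl, add_zero, zero_add]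
    have hz : Q (b (u i1) + w i1) ≠ 0 := by rw [hQz]; exact one_ne_zero
    have hab' := hab.conj_left (hor _ hz)
    refine twist hQ B F hi hab' fun v => ?_
    rw [hform']
    congr 2
    · funext i
      apply hfix
      rw [polar_add_left, F.buu, F.wu, add_zero]
    · funext i
      by_cases h : i = i1
      · rw [h, if_pos rfl, refl_apply, hQz, inv_one, one_mul, polar_add_left, F.bubu, F.wbu, if_pos rfl,
          zero_add, one_smul, sub' K, ← add_assoc, dbl K, zero_add]
      · rw [if_neg h]
        apply hfix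
        rw [polar_add_left, F.bubu, F.wbu, if_neg h, add_zero]

/-- **Lemma E4a.** -/
theorem e4a [Finite K] [FiniteDimensional K V] {Q : QuadraticForm K V} (hQ : Nondeg Q)
    (hn : 8 ≤ finrank K V) {a b : V ≃ₗ[K] V} (hab : PBad (E Q) a b) {d : K} (ha : a ≠ 1) (hb : b ≠ 1)
    (hac : a * a = 1) (hbd : ∀ v, b v + b⁻¹ v = d • v) (haQ : ∀ v, polar Q (a v) v = 0)
    (hbQ : ∀ v, polar Q (b v) v = d * Q v) : False := by
  have hV : Nontrivial V := nontrivial_of_finrank_pos (by omega : 0 < finrank K V)
  have B : BD Q b d := ⟨E_le_O hab.2.1, hbd, hbQ⟩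
  by_cases hd : d = 0
  · subst hd
    rcases le_total (finrank K (LinearMap.range (a.toLinearMap + LinearMap.id)))
      (finrank K (LinearMap.range (b.toLinearMap + LinearMap.id))) with h | h
    · exact core hQ hn hab ha hb hac B haQ fun _ => h
    · have hbb : b * b = 1 := by
        ext v
        change b (b v) = v
        rw [B.bb, zero_smul, zero_add]
      have hai : a⁻¹ = a := inv_eq_of_mul_eq_one_left hac
      have A : BD Q a 0 := by
        refine ⟨E_le_O hab.1, fun v => ?_, fun v => ?_⟩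
        · rw [hai, zero_smul, dbl K]
        · rw [haQ, zero_mul]
      exact core hQ hn hab.symm hb ha hbb A (fun v => by rw [hbQ, zero_mul]) fun _ => h
  · exact core hQ hn hab ha hb hac B haQ fun h => absurd h hd

end Cfsg.Agent.H411.Sz
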