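import Cfsg.Agent.H411.Sz.Base

/-!
# Alternating endomorphisms in characteristic two (helper411, for S2273)
-/

set_option autoImplicit false
set_option linter.unusedSectionVars false

namespace Cfsg.Agent.H411.Sz

open Module QuadraticMap Cfsg.Agent.LieClassical.OrthCore Cfsg.Agent.LieClassical.OrthTrans
  Cfsg.Agent.LieClassical.OrthSimple Cfsg.Agent.H105.Sz

variable {K V : Type*} [Field K] [CharP K 2] [AddCommGroup V] [Module K V] {Q : QuadraticForm K V}

/-- totally singular families -/
structure TS (Q : QuadraticForm K V) {k : ℕ} (p q : Fin k → V) : Prop where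
  Qp : ∀ i, Q (p i) = 0
  Qq : ∀ i, Q (q i) = 0
  pp : ∀ i j, polar Q (p i) (p j) = 0
  pq : ∀ i j, polar Q (p i) (q j) = 0
  qq : ∀ i j, polar Q (q i) (q j) = 0

/-- dual families -/
structure Du (Q : QuadraticForm K V) {k : ℕ} (p q x y : Fin k → V) : Prop where
  px : ∀ i j, polar Q (p i) (x j) = 0
  py : ∀ i j, polar Q (p i) (y j) = if i = j then 1 else 0
  qx : ∀ i j, polar Q (q i) (x j) = if i = j then 1 else 0
  qy : ∀ i j, polar Q (q i) (y j) = 0

/-- the sum of the `N_{p i, q i}` -/
noncomputable def nsum (Q : QuadraticForm K V) {k : ℕ} (p q : Fin k → V) (v : V) : V :=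
  ∑ i, (polar Q v (p i) • q i + polar Q v (q i) • p i)

/-- combination map -/
noncomputable def comb {k : ℕ} (p q : Fin k → V) : ((Fin k → K) × (Fin k → K)) →ₗ[K] V where
  toFun c := ∑ i, (c.1 i • p i + c.2 i • q i)
  map_add' c c' := by
    rw [← Finset.sum_add_distrib]
    refine Finset.sum_congr rfl fun i _ => ?_
    simp only [Prod.fst_add, Prod.snd_add, Pi.add_apply]
    module
  map_smul' a c := by
    rw [Finset.smul_sum]
    refine Finset.sum_congr rfl fun i _ => ?_
    simp only [Prod.smul_fst, Prod.smul_snd, Pi.smul_apply, smul_eq_mul, RingHom.id_apply]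
    module

theorem comb_apply {k : ℕ} (p q : Fin k → V) (c : (Fin k → K) × (Fin k → K)) :
    comb p q c = ∑ i, (c.1 i • p i + c.2 i • q i) := rfl

theorem polar_sum_left {ι : Type*} (s : Finset ι) (f : ι → V) (v : V) :
    polar Q (∑ i ∈ s, f i) v = ∑ i ∈ s, polar Q (f i) v := by
  change polarBilin Q (∑ i ∈ s, f i) v = _
  rw [map_sum, LinearMap.sum_apply]
  rfl

theorem polar_sum_right {ι : Type*} (s : Finset ι) (f : ι → V) (v : V) :
    polar Q v (∑ i ∈ s, f i) = ∑ i ∈ s, polar Q v (f i) := by
  rw [polar_comm, polar_sum_left]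
  exact Finset.sum_congr rfl fun i _ => polar_comm _ _ _

theorem Du.injective {k : ℕ} {p q x y : Fin k → V} (h : Du Q p q x y) :
    Function.Injective (comb (K := K) p q) := by
  rw [← LinearMap.ker_eq_bot, LinearMap.ker_eq_bot']
  intro c hc
  rw [comb_apply] at hc
  refine Prod.ext ?_ ?_
  · funext j
    have h1 : polar Q (∑ i, (c.1 i • p i + c.2 i • q i)) (y j) = 0 := by
      rw [hc, polar_zero_left]
    rw [polar_sum_left] at h1
    simp only [polar_add_left, polar_smul_left, h.py, h.qy, smul_eq_mul, mul_zero, add_zero, mul_ite,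
      mul_one] at h1
    simpa using h1
  · funext j
    have h1 : polar Q (∑ i, (c.1 i • p i + c.2 i • q i)) (x j) = 0 := by
      rw [hc, polar_zero_left]
    rw [polar_sum_left] at h1
    simp only [polar_add_left, polar_smul_left, h.px, h.qx, smul_eq_mul, mul_zero, zero_add, mul_ite,
      mul_one] at h1
    simpa using h1

theorem Q_sum_of_orth {ι : Type*} (s : Finset ι) (f : ι → V) (h : ∀ i j, polar Q (f i) (f j) = 0)
    (hf : ∀ i, Q (f i) = 0) : Q (∑ i ∈ s, f i) = 0 := by
  classical
  induction s using Finset.induction_on with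
  | empty => simp
  | insert a s ha ih =>
    rw [Finset.sum_insert ha, Q_add, hf, ih, polar_sum_right, Finset.sum_eq_zero fun i _ => h a i]
    simp

theorem TS.Q_comb {k : ℕ} {p q : Fin k → V} (h : TS Q p q) (c : (Fin k → K) × (Fin k → K)) :
    Q (comb p q c) = 0 := by
  have hqp : ∀ i j, polar Q (q i) (p j) = 0 := fun i j => by rw [polar_comm]; exact h.pq j i
  rw [comb_apply]
  apply Q_sum_of_orth
  · intro i j
    simp only [polar_add_left, polar_add_right, polar_smul_left, polar_smul_right, h.pp, h.pq, h.qq,
      hqp, smul_zero, add_zero]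
  · intro i
    rw [Q_add, QuadraticMap.map_smul, QuadraticMap.map_smul, h.Qp, h.Qq, polar_smul_left,
      polar_smul_right, h.pq]
    simp

theorem exists_move [FiniteDimensional K V] (hQ : Nondeg Q) {k : ℕ} {p q x y p' q' x' y' : Fin k → V}
    (h1 : TS Q p q) (h2 : Du Q p q x y) (h1' : TS Q p' q') (h2' : Du Q p' q' x' y') :
    ∃ g ∈ O Q, ∀ i, g (p i) = p' i ∧ g (q i) = q' i := by
  obtain ⟨g, hg, h⟩ := Cfsg.Agent.H958.witt_maps hQ (comb (K := K) p q) (comb p' q') h2.injective
    h2'.injective (fun c => by rw [h1.Q_comb, h1'.Q_comb])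
  refine ⟨g, hg, fun i => ?_⟩
  constructor
  · have := h (Pi.single i 1, 0)
    rw [comb_apply, comb_apply] at this
    simpa [Pi.single_apply] using this
  · have := h (0, Pi.single i 1)
    rw [comb_apply, comb_apply] at this
    simpa [Pi.single_apply] using this

/-- conjugating `1 + nsum` -/
theorem nsum_map {k : ℕ} {p q : Fin k → V} {g : V ≃ₗ[K] V} (hg : g ∈ O Q) (v : V) :
    g (nsum Q p q v) = nsum Q (fun i => g (p i)) (fun i => g (q i)) (g v) := by
  unfold nsum
  rw [map_sum]
  refine Finset.sum_congr rfl fun i _ => ?_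
  rw [map_add, map_smul, map_smul, polar_map hg, polar_map hg]

theorem adj_of_alt {s : V →ₗ[K] V} (hs : ∀ v, polar Q (s v) v = 0) (v w : V) :
    polar Q (s v) w = polar Q v (s w) := by
  have h := hs (v + w)
  rw [map_add, polar_add_left, polar_add_right, polar_add_right, hs, hs, zero_add, add_zero] at h
  rw [polar_comm Q v]
  exact eq_of_add K h

theorem exists_decomp [FiniteDimensional K V] (hQ : Nondeg Q) : ∀ (n : ℕ) (s : V →ₗ[K] V),
    finrank K (LinearMap.range s) = n → (∀ v, polar Q (s v) v = 0) → 
    ∃ (k : ℕ) (p q x y : Fin k → V), (∀ v, s v = nsum Q p q v) ∧ Du Q p q x y ∧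
      (∀ i, p i ∈ LinearMap.range s) ∧ (∀ i, q i ∈ LinearMap.range s) := by
  intro n
  induction n using Nat.strong_induction_on with
  | _ n ih =>
    intro s hn hs
    by_cases h0 : ∀ v, s v = 0
    · refine ⟨0, Fin.elim0, Fin.elim0, Fin.elim0, Fin.elim0, fun v => ?_, ⟨fun i => i.elim0,
        fun i => i.elim0, fun i => i.elim0, fun i => i.elim0⟩, fun i => i.elim0, fun i => i.elim0⟩
      rw [h0]
      simp [nsum]
    push Not at h0
    obtain ⟨v, hv⟩ := h0
    obtain ⟨v', hv'⟩ := hQ.exists_polar_eq hv 1
    have hadj := adj_of_alt hs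
    set a := s v with ha
    set b := s v' with hb
    have av : polar Q a v = 0 := hs v
    have av' : polar Q a v' = 1 := hv'
    have bv : polar Q b v = 1 := by rw [hb, hadj, polar_comm]; exact hv'
    have bv' : polar Q b v' = 0 := hs v'
    have va : polar Q v a = 0 := by rw [polar_comm]; exact av
    have v'a : polar Q v' a = 1 := by rw [polar_comm]; exact av'
    have vb : polar Q v b = 1 := by rw [polar_comm]; exact bv
    have v'b : polar Q v' b = 0 := by rw [polar_comm]; exact bv'
    let s1 : V →ₗ[K] V := s + ((polarBilin Q a).smulRight b + (polarBilin Q b).smulRight a)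
    have hs1 : ∀ x, s1 x = s x + (polar Q a x • b + polar Q b x • a) := fun x => rfl
    have hs1v : s1 v = 0 := by rw [hs1, av, bv, ← ha]; simpa using dbl K a
    have hs1v' : s1 v' = 0 := by rw [hs1, av', bv', ← hb]; simpa using dbl K b
    have hr : ∀ x, s1 x ∈ LinearMap.range s := by
      intro x
      rw [hs1]
      exact Submodule.add_mem _ ⟨x, rfl⟩ (Submodule.add_mem _ (Submodule.smul_mem _ _ ⟨v', rfl⟩)
        (Submodule.smul_mem _ _ ⟨v, rfl⟩))
    have halt : ∀ x, polar Q (s1 x) x = 0 := by
      intro x
      rw [hs1, polar_add_left, hs, polar_add_left, polar_smul_left, polar_smul_left]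
      simp only [smul_eq_mul]
      linear_combination (polar Q a x * polar Q b x) * two0 K
    have hadj1 := adj_of_alt halt
    have hlt : finrank K (LinearMap.range s1) < n := by
      rw [← hn]
      apply Submodule.finrank_lt_finrank_of_lt
      refine lt_of_le_of_ne ?_ ?_
      · rintro _ ⟨x, rfl⟩
        exact hr x
      · intro he
        have h1 : a ∈ LinearMap.range s1 := by rw [he]; exact ⟨v, rfl⟩
        obtain ⟨x, hx⟩ := h1
        have h2 : polar Q a v' = 0 := by rw [← hx, hadj1, hs1v', polar_zero_right]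
        rw [av'] at h2
        exact one_ne_zero h2
    obtain ⟨k, p, q, x, y, h1, h2, h3, h4⟩ := ih _ hlt s1 rfl halt
    have pv : ∀ i, polar Q (p i) v = 0 := by
      intro i
      obtain ⟨z, hz⟩ := h3 i
      rw [← hz, hadj1, hs1v, polar_zero_right]
    have pv' : ∀ i, polar Q (p i) v' = 0 := by
      intro i
      obtain ⟨z, hz⟩ := h3 i
      rw [← hz, hadj1, hs1v', polar_zero_right]
    have qv : ∀ i, polar Q (q i) v = 0 := by
      intro i
      obtain ⟨z, hz⟩ := h4 i
      rw [← hz, hadj1, hs1v, polar_zero_right]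
    have qv' : ∀ i, polar Q (q i) v' = 0 := by
      intro i
      obtain ⟨z, hz⟩ := h4 i
      rw [← hz, hadj1, hs1v', polar_zero_right]
    refine ⟨k + 1, Fin.cons a p, Fin.cons b q,
      Fin.cons v (fun i => x i + polar Q b (x i) • v + polar Q a (x i) • v'),
      Fin.cons v' (fun i => y i + polar Q b (y i) • v + polar Q a (y i) • v'), ?_, ⟨?_, ?_, ?_, ?_⟩, ?_, ?_⟩
    · intro z
      have e : s z = s1 z + (polar Q a z • b + polar Q b z • a) := by
        rw [hs1, add_assoc, dbl K, add_zero]
      rw [e, h1, nsum, nsum, Fin.sum_univ_succ]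
      simp only [Fin.cons_zero, Fin.cons_succ]
      rw [polar_comm Q z a, polar_comm Q z b]
      abel
    · intro i j
      refine Fin.cases ?_ (fun i => ?_) i <;> refine Fin.cases ?_ (fun j => ?_) j
      · simpa using av
      · simp only [Fin.cons_zero, Fin.cons_succ, polar_add_right, polar_smul_right, av, av', smul_eq_mul]
        linear_combination (polar Q a (x j)) * two0 K
      · simpa using pv i
      · simp only [Fin.cons_succ, polar_add_right, polar_smul_right, pv, pv', h2.px]
        simp
    · intro i j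
      refine Fin.cases ?_ (fun i => ?_) i <;> refine Fin.cases ?_ (fun j => ?_) j
      · simpa using av'
      · simp only [Fin.cons_zero, Fin.cons_succ, polar_add_right, polar_smul_right, av, av', smul_eq_mul]
        rw [if_neg (Fin.succ_ne_zero j).symm]
        linear_combination (polar Q a (y j)) * two0 K
      · rw [if_neg (Fin.succ_ne_zero i)]
        simpa using pv' i
      · simp only [Fin.cons_succ, polar_add_right, polar_smul_right, pv, pv', h2.py, Fin.succ_inj]
        simp
    · intro i j
      refine Fin.cases ?_ (fun i => ?_) i <;> refine Fin.cases ?_ (fun j => ?_) j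
      · simpa using bv
      · simp only [Fin.cons_zero, Fin.cons_succ, polar_add_right, polar_smul_right, bv, bv', smul_eq_mul]
        rw [if_neg (Fin.succ_ne_zero j).symm]
        linear_combination (polar Q b (x j)) * two0 K
      · rw [if_neg (Fin.succ_ne_zero i)]
        simpa using qv i
      · simp only [Fin.cons_succ, polar_add_right, polar_smul_right, qv, qv', h2.qx, Fin.succ_inj]
        simp
    · intro i j
      refine Fin.cases ?_ (fun i => ?_) i <;> refine Fin.cases ?_ (fun j => ?_) j
      · simpa using bv'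
      · simp only [Fin.cons_zero, Fin.cons_succ, polar_add_right, polar_smul_right, bv, bv', smul_eq_mul]
        linear_combination (polar Q b (y j)) * two0 K
      · simpa using qv' i
      · simp only [Fin.cons_succ, polar_add_right, polar_smul_right, qv, qv', h2.qy]
        simp
    · intro i
      refine Fin.cases ?_ (fun i => ?_) i
      · exact ⟨v, rfl⟩
      · obtain ⟨z, hz⟩ := h3 i
        rw [Fin.cons_succ, ← hz]
        exact hr z
    · intro i
      refine Fin.cases ?_ (fun i => ?_) i
      · exact ⟨v', rfl⟩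
      · obtain ⟨z, hz⟩ := h4 i
        rw [Fin.cons_succ, ← hz]
        exact hr z

end Cfsg.Agent.H411.Sz
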