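import Cfsg.Agent.H105.SzBase
import Cfsg.Agent.LieClassical.OrthSimple
import Cfsg.Agent.LieClassical.OrthFinite
import Cfsg.Agent.H958.Wt

/-!
# Orthogonal groups in characteristic two: basic facts (helper411, for S2273)
-/

set_option autoImplicit false
set_option linter.unusedSectionVars false

namespace Cfsg.Agent.H411.Sz

open Module QuadraticMap Cfsg.Agent.LieClassical.OrthCore Cfsg.Agent.LieClassical.OrthTrans
  Cfsg.Agent.LieClassical.OrthSimple Cfsg.Agent.H105.Sz

section Char2

variable {K V : Type*} [Field K] [CharP K 2] [AddCommGroup V] [Module K V]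

variable (K) in
theorem two0 : (2 : K) = 0 := CharTwo.two_eq_zero

variable (K) in
include K in
theorem dbl (x : V) : x + x = 0 := by
  rw [← two_smul K x, two0, zero_smul]

variable (K) in
include K in
theorem neg' (x : V) : -x = x := by
  rw [neg_eq_iff_add_eq_zero]; exact dbl K x

variable (K) in
include K in
theorem sub' (x y : V) : x - y = x + y := by
  rw [sub_eq_add_neg, neg' K y]

variable (K) in
include K in
theorem eq_of_add {x y : V} (h : x + y = 0) : x = y := by
  rw [add_eq_zero_iff_eq_neg, neg' K] at h; exact h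

variable {Q : QuadraticForm K V}

theorem pol_self (x : V) : polar Q x x = 0 := by rw [polar_self', two0, zero_mul]

theorem exists_Q_ne [Nontrivial V] (hQ : Nondeg Q) : ∃ z, Q z ≠ 0 := by
  by_contra hcon
  push Not at hcon
  obtain ⟨x, hx⟩ := exists_ne (0 : V)
  apply hx
  apply hQ
  intro y
  rw [polar, hcon, hcon, hcon]
  simp

/-- a scalar isometry is trivial -/
theorem scal_one [Nontrivial V] (hQ : Nondeg Q) {c : K} {f g : V → V} (h : ∀ v, f v = c • g v)
    (hf : ∀ v, Q (f v) = Q v) (hg : ∀ v, Q (g v) = Q v) : c = 1 := by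
  obtain ⟨z, hz⟩ := exists_Q_ne hQ
  have h1 := hf z
  rw [h, QuadraticMap.map_smul, hg, smul_eq_mul] at h1
  have h2 : (c - 1) * (c - 1) = 0 := by
    have h3 : (c * c - 1) * Q z = 0 := by rw [sub_mul, one_mul, h1, sub_self]
    have h4 : c * c - 1 = 0 := (mul_eq_zero.1 h3).resolve_right hz
    have h5 := two0 K
    linear_combination h4 - (c - 1) * h5
  have := mul_self_eq_zero.1 h2
  exact sub_eq_zero.1 this

theorem scomm_exact [Nontrivial V] (hQ : Nondeg Q) {x a : V ≃ₗ[K] V} (hx : x ∈ O Q) (ha : a ∈ O Q)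
    (h : SComm x a) (v : V) : a (x v) = x (a v) := by
  obtain ⟨c, hc⟩ := h
  have : c = 1 := scal_one hQ (f := fun v => a (x v)) (g := fun v => x (a v)) hc
    (fun v => by rw [mem_O.1 ha, mem_O.1 hx]) (fun v => by rw [mem_O.1 hx, mem_O.1 ha])
  rw [hc, this, one_smul]

end Char2

section Fin

variable {K V : Type*} [Field K] [Finite K] [CharP K 2] [AddCommGroup V] [Module K V]
  [FiniteDimensional K V] {Q : QuadraticForm K V}

omit [AddCommGroup V] [Module K V] [FiniteDimensional K V] in
theorem exists_sq (c : K) : ∃ d : K, d * d = c := by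
  obtain ⟨d, hd⟩ := (frobenius_inj K 2).surjective_of_finite (Equiv.refl K) c
  exact ⟨d, by rw [← hd, frobenius_def, pow_two]⟩

theorem refl_mul_refl (hG : Good Q) {v v' : V} (hv : Q v ≠ 0) (hv' : Q v' ≠ 0) :
    refl Q v' hv' * refl Q v hv ∈ E Q := by
  obtain ⟨c, hc⟩ := exists_sq (Q v' * (Q v)⁻¹)
  have hc0 : c ≠ 0 := by
    rintro rfl
    rw [zero_mul] at hc
    exact mul_ne_zero hv' (inv_ne_zero hv) hc.symm
  have h1 : Q (c • v) = Q v' := by
    rw [QuadraticMap.map_smul, smul_eq_mul, hc, mul_assoc, inv_mul_cancel₀ hv, mul_one]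
  have h2 : Q (c • v) ≠ 0 := by rw [h1]; exact hv'
  rw [← refl_smul hv hc0 h2]
  exact hG.refl_mul_refl_mem h2 hv' h1

theorem O_or (hG : Good Q) {z : V} (hz : Q z ≠ 0) {g : V ≃ₗ[K] V} (hg : g ∈ O Q) :
    g ∈ E Q ∨ refl Q z hz * g ∈ E Q := by
  have h1 : g ∈ Subgroup.closure (reflSet Q ∪ siegelSet Q) := by
    rw [← O_eq_closure hG.nondeg]; exact hg
  have hle : Subgroup.closure (reflSet Q ∪ siegelSet Q) ≤ O Q := by
    rw [← O_eq_closure hG.nondeg]
  have hrr := refl_mul_self (Q := Q) hz
  have hri := refl_inv (Q := Q) hz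
  clear hg
  induction h1 using Subgroup.closure_induction with
  | mem x hx =>
    rcases hx with ⟨v, hv, rfl⟩ | ⟨u, w, hu, hw, rfl⟩
    · exact Or.inr (refl_mul_refl hG hv hz)
    · exact Or.inl (siegel_mem_E hu hw)
  | one => exact Or.inl (Subgroup.one_mem _)
  | mul x y hx hy ihx ihy =>
    rcases ihx with h | h
    · rcases ihy with h' | h'
      · exact Or.inl (Subgroup.mul_mem _ h h')
      · right
        have e : refl Q z hz * (x * y) = (refl Q z hz * x * (refl Q z hz)⁻¹) * (refl Q z hz * y) := by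
          group
        rw [e]
        exact Subgroup.mul_mem _ (conj_mem_E (refl_mem_O hz) h) h'
    · rcases ihy with h' | h'
      · right
        rw [← mul_assoc]
        exact Subgroup.mul_mem _ h h'
      · left
        have e : x * y = (refl Q z hz * (refl Q z hz * x) * (refl Q z hz)⁻¹) * (refl Q z hz * y) := by
          have e' : (refl Q z hz * (refl Q z hz * x) * (refl Q z hz)⁻¹) * (refl Q z hz * y) =
              (refl Q z hz * refl Q z hz) * (x * y) := by group
          rw [e', hrr, one_mul]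
        rw [e]
        exact Subgroup.mul_mem _ (conj_mem_E (refl_mem_O hz) h) h'
  | inv x hx ih =>
    rcases ih with h | h
    · exact Or.inl (Subgroup.inv_mem _ h)
    · right
      have e : refl Q z hz * x⁻¹ = refl Q z hz * (refl Q z hz * x)⁻¹ * (refl Q z hz)⁻¹ := by
        rw [mul_inv_rev, mul_assoc, mul_assoc, hri, hrr, mul_one]
      rw [e]
      exact conj_mem_E (refl_mem_O hz) (Subgroup.inv_mem _ h)

/-- If `b` commutes with `a` then one of them is trivial. -/
theorem comm_false (hG : Good Q) {a b : V ≃ₗ[K] V} (hab : PBad (E Q) a b) (ha : a ≠ 1)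
    (hb : b ≠ 1) (hc : ∀ v, a (b v) = b (a v)) : False := by
  have hV : Nontrivial V := by
    by_contra hcon
    rw [not_nontrivial_iff_subsingleton] at hcon
    exact ha (LinearEquiv.ext fun v => Subsingleton.elim _ _)
  have hnd := hG.nondeg
  have hall : ∀ g ∈ E Q, ∀ v, a ((g * b * g⁻¹) v) = (g * b * g⁻¹) (a v) := fun g hg =>
    scomm_exact hnd ((O Q).mul_mem ((O Q).mul_mem (E_le_O hg) (E_le_O hab.2.1))
      ((O Q).inv_mem (E_le_O hg))) (E_le_O hab.1) (hab.comm_all ⟨1, fun v => by rw [hc, one_smul]⟩ hg)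
  -- scalar elements of `E Q` are trivial
  have hsc : ∀ n ∈ E Q, (∃ c : K, ∀ v : V, n v = c • v) → n = 1 := by
    rintro n hn ⟨c, h⟩
    have : c = 1 := scal_one hnd h (fun v => mem_O.1 (E_le_O hn) v) (fun v => rfl)
    ext v
    rw [h, this, one_smul]
    rfl
  -- the elements of `E Q` commuting with `a`, all conjugates
  let N : Subgroup (V ≃ₗ[K] V) := Subgroup.closure {y | ∃ g ∈ E Q, y = g * b * g⁻¹}
  have hNE : N ≤ E Q := by
    rw [Subgroup.closure_le]
    rintro _ ⟨g, hg, rfl⟩
    exact (E Q).mul_mem ((E Q).mul_mem hg hab.2.1) ((E Q).inv_mem hg)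
  have hNn : ∀ g ∈ E Q, ∀ n ∈ N, g * n * g⁻¹ ∈ N := by
    intro g hg n hn
    have : N ≤ N.comap (MulAut.conj g).toMonoidHom := by
      rw [Subgroup.closure_le]
      rintro _ ⟨k, hk, rfl⟩
      refine Subgroup.subset_closure ⟨g * k, (E Q).mul_mem hg hk, ?_⟩
      simp only [MulEquiv.coe_toMonoidHom, MulAut.conj_apply]
      group
    exact this hn
  have hbN : b ∈ N := Subgroup.subset_closure ⟨1, (E Q).one_mem, by group⟩
  have hNtop : N = E Q := by
    rcases good_normal_dichotomy hG hNE hNn with h | h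
    · exact absurd (hsc b hab.2.1 (h b hbN)) hb
    · exact h
  have hcomm : ∀ n ∈ E Q, a * n = n * a := by
    have h1 : N ≤ Subgroup.centralizer {a} := by
      rw [Subgroup.closure_le]
      rintro _ ⟨g, hg, rfl⟩
      rw [SetLike.mem_coe, Subgroup.mem_centralizer_singleton_iff]
      ext v
      exact (hall g hg v).symm
    intro n hn
    rw [← hNtop] at hn
    exact (Subgroup.mem_centralizer_singleton_iff.1 (h1 hn)).symm
  -- the centre of `E Q`
  let Z : Subgroup (V ≃ₗ[K] V) := E Q ⊓ Subgroup.centralizer (E Q : Set (V ≃ₗ[K] V))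
  have hZn : ∀ g ∈ E Q, ∀ n ∈ Z, g * n * g⁻¹ ∈ Z := by
    intro g hg n hn
    have h2 : g * n = n * g := Subgroup.mem_centralizer_iff.1 hn.2 g hg
    rw [h2, mul_inv_cancel_right]
    exact hn
  have haZ : a ∈ Z := ⟨hab.1, Subgroup.mem_centralizer_iff.2 fun n hn => (hcomm n hn).symm⟩
  rcases good_normal_dichotomy hG inf_le_left hZn with h | h
  · exact ha (hsc a hab.1 (h a haZ))
  · have h3 : ⁅E Q, E Q⁆ = ⊥ := by
      rw [Subgroup.commutator_eq_bot_iff_le_centralizer]
      intro x hx
      have : x ∈ Z := by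
        rw [show Z = E Q from h]; exact hx
      exact this.2
    rw [hG.E_perfect] at h3
    rw [h3] at hab
    exact ha ((Subgroup.mem_bot).1 hab.1)

end Fin

end Cfsg.Agent.H411.Sz
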