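import Cfsg.Agent.H411.Sz.Alt

/-!
# Frames for isometries with `b + b⁻¹ = d` (helper411, for S2273)
-/

set_option autoImplicit false
set_option linter.unusedSectionVars false

namespace Cfsg.Agent.H411.Sz

open Module QuadraticMap Cfsg.Agent.LieClassical.OrthCore Cfsg.Agent.LieClassical.OrthTrans
  Cfsg.Agent.LieClassical.OrthSimple Cfsg.Agent.H105.Sz

variable {K V : Type*} [Field K] [CharP K 2] [AddCommGroup V] [Module K V] {Q : QuadraticForm K V}

theorem rank_eq [FiniteDimensional K V] {s : V →ₗ[K] V} {k : ℕ} {p q x y : Fin k → V}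
    (h1 : ∀ v, s v = nsum Q p q v) (h2 : Du Q p q x y) (h3 : ∀ i, p i ∈ LinearMap.range s)
    (h4 : ∀ i, q i ∈ LinearMap.range s) : finrank K (LinearMap.range s) = 2 * k := by
  have e : LinearMap.range s = LinearMap.range (comb (K := K) p q) := by
    apply le_antisymm
    · rintro _ ⟨v, rfl⟩
      refine ⟨(fun i => polar Q v (q i), fun i => polar Q v (p i)), ?_⟩
      rw [h1, comb_apply, nsum]
      exact Finset.sum_congr rfl fun i _ => add_comm _ _
    · rintro _ ⟨c, rfl⟩
      rw [comb_apply]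
      exact Submodule.sum_mem _ fun i _ => Submodule.add_mem _ (Submodule.smul_mem _ _ (h3 i))
        (Submodule.smul_mem _ _ (h4 i))
  rw [e, LinearMap.finrank_range_of_inj h2.injective, finrank_prod, finrank_fin_fun]
  ring

/-- the standing data on `b` -/
structure BD (Q : QuadraticForm K V) (b : V ≃ₗ[K] V) (d : K) : Prop where
  mem : b ∈ O Q
  eq : ∀ v, b v + b⁻¹ v = d • v
  pol : ∀ v, polar Q (b v) v = d * Q v

namespace BD

variable {b : V ≃ₗ[K] V} {d : K} (B : BD Q b d)
include B

theorem bb (v : V) : b (b v) = d • b v + v := by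
  have h := B.eq (b v)
  have h1 : b⁻¹ (b v) = v := b.symm_apply_apply v
  rw [h1] at h
  rw [← h, add_assoc, dbl K, add_zero]

theorem pmap (x y : V) : polar Q (b x) (b y) = polar Q x y := polar_map B.mem x y

theorem pl (x y : V) : polar Q (b x) y = d * polar Q x y + polar Q x (b y) := by
  have h1 : polar Q (b x) y = polar Q x (b⁻¹ y) := by
    have h2 : b (b⁻¹ y) = y := b.apply_symm_apply y
    nth_rewrite 1 [← h2]
    rw [B.pmap]
  have h3 : b⁻¹ y = d • y + b y := by
    rw [← B.eq y, add_comm (b y), add_assoc, dbl K, add_zero]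
  rw [h1, h3, polar_add_right, polar_smul_right, smul_eq_mul]

end BD

/-- a frame vector pair -/
structure Fr (Q : QuadraticForm K V) (b : V ≃ₗ[K] V) (u w : V) : Prop where
  Qu : Q u = 0
  Qw : Q w = 0
  uw : polar Q u w = 0
  buw : polar Q (b u) w = 1

namespace Fr

variable {b : V ≃ₗ[K] V} {d : K} {u w : V}

theorem ubu (h : Fr Q b u w) (B : BD Q b d) : polar Q u (b u) = 0 := by
  rw [polar_comm, B.pol, h.Qu, mul_zero]

theorem wbw (h : Fr Q b u w) (B : BD Q b d) : polar Q w (b w) = 0 := by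
  rw [polar_comm, B.pol, h.Qw, mul_zero]

theorem ubw (h : Fr Q b u w) (B : BD Q b d) : polar Q u (b w) = 1 := by
  have h1 := B.pl u w
  rw [h.buw, h.uw, mul_zero, zero_add] at h1
  exact h1.symm

theorem bubw (h : Fr Q b u w) (B : BD Q b d) : polar Q (b u) (b w) = 0 := by
  rw [B.pmap, h.uw]

end Fr

/-- invariant nondegenerate subspaces -/
structure Inv (Q : QuadraticForm K V) (b : V ≃ₗ[K] V) (W : Submodule K V) : Prop where
  binv : ∀ x ∈ W, b x ∈ W
  nd : ∀ x ∈ W, (∀ y ∈ W, polar Q x y = 0) → x = 0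

/-- the vectors of `W` orthogonal to `x` and `y` -/
def cut (Q : QuadraticForm K V) (W : Submodule K V) (x : V) : Submodule K V :=
  W ⊓ LinearMap.ker (polarBilin Q x)

theorem mem_cut {W : Submodule K V} {x v : V} : v ∈ cut Q W x ↔ v ∈ W ∧ polar Q x v = 0 := by
  rw [cut, Submodule.mem_inf, LinearMap.mem_ker]
  rfl

/-- a vector `w` of `W` with prescribed products with two independent vectors of `W` -/
theorem exists_pair {W : Submodule K V} (hnd : ∀ x ∈ W, (∀ y ∈ W, polar Q x y = 0) → x = 0)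
    {u u' : V} (hu : u ∈ W) (hu' : u' ∈ W) (hi : ∀ c : K, u' ≠ c • u) :
    ∃ w ∈ W, polar Q u w = 0 ∧ polar Q u' w = 1 := by
  by_cases h0 : u = 0
  · have hne : u' ≠ 0 := by
      intro h
      exact hi 0 (by rw [h, zero_smul])
    have : ∃ y ∈ W, polar Q u' y ≠ 0 := by
      by_contra hcon
      push Not at hcon
      exact hne (hnd u' hu' hcon)
    obtain ⟨y, hy, hy'⟩ := this
    refine ⟨(polar Q u' y)⁻¹ • y, Submodule.smul_mem _ _ hy, ?_, ?_⟩
    · rw [h0, polar_zero_left]
    · rw [polar_smul_right, smul_eq_mul, inv_mul_cancel₀ hy']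
  · have : ∃ y ∈ W, polar Q u y ≠ 0 := by
      by_contra hcon
      push Not at hcon
      exact h0 (hnd u hu hcon)
    obtain ⟨y, hy, hy'⟩ := this
    -- `z = u' - c u` with `(z, y) = 0`
    set c := polar Q u' y * (polar Q u y)⁻¹ with hc
    have hz : u' - c • u ∈ W := Submodule.sub_mem _ hu' (Submodule.smul_mem _ _ hu)
    have hz0 : u' - c • u ≠ 0 := fun h => hi c (sub_eq_zero.1 h)
    have : ∃ x ∈ W, polar Q (u' - c • u) x ≠ 0 := by
      by_contra hcon
      push Not at hcon
      exact hz0 (hnd _ hz hcon)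
    obtain ⟨x, hx, hx'⟩ := this
    have hcy : c * polar Q u y = polar Q u' y := by
      rw [hc, mul_assoc, inv_mul_cancel₀ hy', mul_one]
    set e := polar Q u x * (polar Q u y)⁻¹ with he
    have hey : e * polar Q u y = polar Q u x := by
      rw [he, mul_assoc, inv_mul_cancel₀ hy', mul_one]
    -- `t = x - e y` is orthogonal to `u`
    have ht : polar Q u (x - e • y) = 0 := by
      rw [polar_sub_right, polar_smul_right, smul_eq_mul, hey, sub_self]
    have ht' : polar Q u' (x - e • y) = polar Q (u' - c • u) x := by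
      rw [polar_sub_right, polar_smul_right, polar_sub_left, polar_smul_left, smul_eq_mul, smul_eq_mul,
        ← hey, ← hcy]
      ring
    refine ⟨(polar Q (u' - c • u) x)⁻¹ • (x - e • y), Submodule.smul_mem _ _
      (Submodule.sub_mem _ hx (Submodule.smul_mem _ _ hy)), ?_, ?_⟩
    · rw [polar_smul_right, ht, smul_zero]
    · rw [polar_smul_right, ht', smul_eq_mul, inv_mul_cancel₀ hx']

/-- completing a frame -/
theorem exists_fr {b : V ≃ₗ[K] V} {d : K} (B : BD Q b d) {W : Submodule K V} (I : Inv Q b W) {u : V}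
    (hu : u ∈ W) (hQu : Q u = 0) (hi : ∀ c : K, b u ≠ c • u) : ∃ w ∈ W, Fr Q b u w := by
  obtain ⟨w, hw, h1, h2⟩ := exists_pair I.nd hu (I.binv u hu) hi
  have hub : polar Q u (b u) = 0 := by rw [polar_comm, B.pol, hQu, mul_zero]
  have hQb : Q (b u) = 0 := by rw [mem_O.1 B.mem, hQu]
  refine ⟨w + Q w • b u, Submodule.add_mem _ hw (Submodule.smul_mem _ _ (I.binv u hu)), hQu, ?_, ?_, ?_⟩
  · rw [Q_add, QuadraticMap.map_smul, hQb, polar_smul_right, polar_comm Q w, h2]
    simp only [smul_eq_mul]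
    linear_combination (Q w) * two0 K
  · rw [polar_add_right, polar_smul_right, h1, hub, smul_zero, add_zero]
  · rw [polar_add_right, polar_smul_right, h2, pol_self, smul_zero, add_zero]


theorem finrank_cut [FiniteDimensional K V] (W : Submodule K V) (x : V) :
    finrank K W ≤ finrank K (cut Q W x) + 1 := by
  have h1 := Submodule.finrank_sup_add_finrank_inf_eq W (LinearMap.ker (polarBilin Q x))
  have h2 := Submodule.finrank_le (W ⊔ LinearMap.ker (polarBilin Q x))
  have h3 := LinearMap.finrank_range_add_finrank_ker (polarBilin Q x)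
  have h4 : finrank K (LinearMap.range (polarBilin Q x)) ≤ 1 := by
    refine le_trans (Submodule.finrank_le _) ?_
    rw [finrank_self]
  unfold cut
  omega

/-- a singular vector which is not an eigenvector, `d ≠ 0` -/
theorem exists_u_ne [Finite K] [FiniteDimensional K V] {b : V ≃ₗ[K] V} {d : K} (B : BD Q b d)
    (hd : d ≠ 0) {W : Submodule K V} (I : Inv Q b W) (hW : 3 ≤ finrank K W) :
    ∃ u ∈ W, Q u = 0 ∧ ∀ c : K, b u ≠ c • u := by
  have hnz : ∀ (U : Submodule K V) (y z : V), y ∈ U → z ∈ U → polar Q y z ≠ 0 → ∃ t ∈ U, Q t = 1 := by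
    intro U y z hy hz hyz
    have : ∃ t ∈ U, Q t ≠ 0 := by
      by_contra hcon
      push Not at hcon
      apply hyz
      rw [polar, hcon _ (U.add_mem hy hz), hcon _ hy, hcon _ hz]
      simp
    obtain ⟨t, ht, ht'⟩ := this
    obtain ⟨c, hc⟩ := exists_sq (K := K) (Q t)⁻¹
    refine ⟨c • t, U.smul_mem _ ht, ?_⟩
    rw [QuadraticMap.map_smul, smul_eq_mul, hc, inv_mul_cancel₀ ht']
  have hWne : W ≠ ⊥ := by
    rintro rfl
    rw [finrank_bot] at hW
    omega
  obtain ⟨x0, hx0, hx00⟩ := W.ne_bot_iff.1 hWne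
  have : ∃ y ∈ W, polar Q x0 y ≠ 0 := by
    by_contra hcon
    push Not at hcon
    exact hx00 (I.nd x0 hx0 hcon)
  obtain ⟨y0, hy0, hxy0⟩ := this
  obtain ⟨x, hx, hQx⟩ := hnz W x0 y0 hx0 hy0 hxy0
  have hbx := I.binv x hx
  have hbxx : polar Q (b x) x = d := by rw [B.pol, hQx, mul_one]
  have hxbx : polar Q x (b x) = d := by rw [polar_comm]; exact hbxx
  set U := cut Q (cut Q W x) (b x) with hU
  have hmU : ∀ {v : V}, v ∈ U ↔ (v ∈ W ∧ polar Q x v = 0) ∧ polar Q (b x) v = 0 := by
    intro v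
    rw [hU, mem_cut, mem_cut]
  have hf1 := finrank_cut (Q := Q) W x
  have hf2 := finrank_cut (Q := Q) (cut Q W x) (b x)
  have hUne : U ≠ ⊥ := by
    intro h
    rw [← hU, h, finrank_bot] at hf2
    omega
  obtain ⟨y1, hy1, hy10⟩ := U.ne_bot_iff.1 hUne
  obtain ⟨⟨hy1W, hy1x⟩, hy1b⟩ := hmU.1 hy1
  have : ∃ z ∈ W, polar Q y1 z ≠ 0 := by
    by_contra hcon
    push Not at hcon
    exact hy10 (I.nd y1 hy1W hcon)
  obtain ⟨z, hz, hyz⟩ := this
  have hz' : z + (polar Q (b x) z * d⁻¹) • x + (polar Q x z * d⁻¹) • b x ∈ U := by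
    rw [hmU]
    refine ⟨⟨W.add_mem (W.add_mem hz (W.smul_mem _ hx)) (W.smul_mem _ hbx), ?_⟩, ?_⟩
    · rw [polar_add_right, polar_add_right, polar_smul_right, polar_smul_right, pol_self, hxbx,
        smul_zero, add_zero, smul_eq_mul, mul_assoc, inv_mul_cancel₀ hd, mul_one]
      linear_combination (polar Q x z) * two0 K
    · rw [polar_add_right, polar_add_right, polar_smul_right, polar_smul_right, pol_self, hbxx,
        smul_zero, add_zero, smul_eq_mul, mul_assoc, inv_mul_cancel₀ hd, mul_one]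
      linear_combination (polar Q (b x) z) * two0 K
  obtain ⟨y, hy, hQy⟩ := hnz U _ _ hy1 hz' (by
    rw [polar_add_right, polar_add_right, polar_smul_right, polar_smul_right, polar_comm Q y1 x, hy1x,
      polar_comm Q y1 (b x), hy1b, smul_zero, smul_zero, add_zero, add_zero]
    exact hyz)
  obtain ⟨⟨hyW, hyx⟩, hyb⟩ := hmU.1 hy
  refine ⟨x + y, W.add_mem hx hyW, ?_, ?_⟩
  · rw [Q_add, hQx, hQy, hyx, add_zero]
    exact dbl K 1
  · intro c hc
    have h1 : polar Q (b (x + y)) x = 0 := by
      rw [hc, polar_smul_left, polar_add_left, pol_self, polar_comm Q y x, hyx, add_zero, smul_zero]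
    rw [map_add, polar_add_left, hbxx, B.pl, polar_comm Q y x, hyx, polar_comm Q y, hyb, mul_zero,
      add_zero, add_zero] at h1
    exact hd h1

theorem not_smul {b : V ≃ₗ[K] V} (B : BD Q b 0) {u : V} (h : b u ≠ u) (c : K) : b u ≠ c • u := by
  intro hc
  have h1 := B.bb u
  rw [zero_smul, zero_add, hc, map_smul, hc, smul_smul] at h1
  have hu : u ≠ 0 := by
    rintro rfl
    exact h (map_zero b)
  have h2 : (c - 1) * (c - 1) = 0 := by
    have h3 : (c * c - 1) • u = 0 := by rw [sub_smul, one_smul, h1, sub_self]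
    have h4 : c * c - 1 = 0 := (smul_eq_zero.1 h3).resolve_right hu
    linear_combination h4 - (c - 1) * two0 K
  have h3 : c = 1 := sub_eq_zero.1 (mul_self_eq_zero.1 h2)
  rw [h3, one_smul] at hc
  exact h hc

/-- a singular vector which is not an eigenvector, `d = 0` -/
theorem exists_u_eq {b : V ≃ₗ[K] V} (B : BD Q b 0) {W : Submodule K V} (I : Inv Q b W)
    (hW : ∃ v ∈ W, b v ≠ v) : ∃ u ∈ W, Q u = 0 ∧ ∀ c : K, b u ≠ c • u := by
  obtain ⟨v, hv, hbv⟩ := hW
  by_cases hQv : Q v = 0
  · exact ⟨v, hv, hQv, not_smul B hbv⟩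
  have hbb : ∀ x, b (b x) = x := fun x => by rw [B.bb, zero_smul, zero_add]
  have hpl : ∀ x y, polar Q (b x) y = polar Q x (b y) := fun x y => by rw [B.pl, zero_mul, zero_add]
  have h0 : b v + v ≠ 0 := fun h => hbv (eq_of_add K h)
  have : ∃ y ∈ W, polar Q (b v + v) y ≠ 0 := by
    by_contra hcon
    push Not at hcon
    exact h0 (I.nd _ (W.add_mem (I.binv v hv) hv) hcon)
  obtain ⟨y, hy, hvy⟩ := this
  set r := b y + y with hr
  have hrW : r ∈ W := W.add_mem (I.binv y hy) hy
  have hvr : polar Q v r ≠ 0 := by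
    rw [hr, polar_add_right, ← hpl, ← polar_add_left]
    exact hvy
  have hQr : Q r = 0 := by
    rw [hr, Q_add, mem_O.1 B.mem, B.pol, zero_mul, add_zero]
    exact dbl K _
  have hbr : b r = r := by rw [hr, map_add, hbb, add_comm]
  refine ⟨v + (Q v * (polar Q v r)⁻¹) • r, W.add_mem hv (W.smul_mem _ hrW), ?_, not_smul B ?_⟩
  · rw [Q_add, QuadraticMap.map_smul, hQr, polar_smul_right, smul_zero, add_zero, smul_eq_mul,
      mul_assoc, inv_mul_cancel₀ hvr, mul_one]
    exact dbl K _
  · rw [map_add, map_smul, hbr]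
    intro h
    exact hbv (add_right_cancel h)

/-- the complement of a frame -/
def comp (Q : QuadraticForm K V) (b : V ≃ₗ[K] V) (W : Submodule K V) (u w : V) : Submodule K V :=
  cut Q (cut Q (cut Q (cut Q W u) (b u)) w) (b w)

theorem mem_comp {b : V ≃ₗ[K] V} {W : Submodule K V} {u w v : V} :
    v ∈ comp Q b W u w ↔ v ∈ W ∧ polar Q u v = 0 ∧ polar Q (b u) v = 0 ∧ polar Q w v = 0 ∧
      polar Q (b w) v = 0 := by
  rw [comp, mem_cut, mem_cut, mem_cut, mem_cut]
  tauto

/-- the projection to the complement -/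
theorem proj_mem {b : V ≃ₗ[K] V} {d : K} (B : BD Q b d) {W : Submodule K V} (I : Inv Q b W) {u w : V}
    (hu : u ∈ W) (hw : w ∈ W) (h : Fr Q b u w) {y : V} (hy : y ∈ W) :
    y + polar Q (b w) y • u + polar Q w y • b u + polar Q (b u) y • w + polar Q u y • b w ∈
      comp Q b W u w := by
  have h1 := h.ubu B
  have h2 := h.wbw B
  have h3 := h.ubw B
  have h4 := h.bubw B
  have h5 := h.uw
  have h6 := h.buw
  have h1' : polar Q (b u) u = 0 := by rw [polar_comm]; exact h1
  have h2' : polar Q (b w) w = 0 := by rw [polar_comm]; exact h2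
  have h3' : polar Q (b w) u = 1 := by rw [polar_comm]; exact h3
  have h4' : polar Q (b w) (b u) = 0 := by rw [polar_comm]; exact h4
  have h5' : polar Q w u = 0 := by rw [polar_comm]; exact h5
  have h6' : polar Q w (b u) = 1 := by rw [polar_comm]; exact h6
  rw [mem_comp]
  refine ⟨?_, ?_, ?_, ?_, ?_⟩
  · exact W.add_mem (W.add_mem (W.add_mem (W.add_mem hy (W.smul_mem _ hu))
      (W.smul_mem _ (I.binv u hu))) (W.smul_mem _ hw)) (W.smul_mem _ (I.binv w hw))
  · simp only [polar_add_right, polar_smul_right, pol_self, h1, h5, h3, smul_eq_mul]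
    linear_combination (polar Q u y) * two0 K
  · simp only [polar_add_right, polar_smul_right, pol_self, h1', h6, h4, smul_eq_mul]
    linear_combination (polar Q (b u) y) * two0 K
  · simp only [polar_add_right, polar_smul_right, pol_self, h5', h6', h2, smul_eq_mul]
    linear_combination (polar Q w y) * two0 K
  · simp only [polar_add_right, polar_smul_right, pol_self, h3', h4', h2', smul_eq_mul]
    linear_combination (polar Q (b w) y) * two0 K

theorem inv_comp {b : V ≃ₗ[K] V} {d : K} (B : BD Q b d) {W : Submodule K V} (I : Inv Q b W) {u w : V}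
    (hu : u ∈ W) (hw : w ∈ W) (h : Fr Q b u w) : Inv Q b (comp Q b W u w) := by
  constructor
  · intro x hx
    rw [mem_comp] at hx ⊢
    obtain ⟨hxW, h1, h2, h3, h4⟩ := hx
    have key : ∀ z, polar Q z x = 0 → polar Q (b z) x = 0 → polar Q z (b x) = 0 := by
      intro z h5 h6
      have := B.pl z x
      rw [h5, h6, mul_zero, zero_add] at this
      exact this.symm
    refine ⟨I.binv x hxW, key u h1 h2, ?_, key w h3 h4, ?_⟩
    · rw [B.pmap]; exact h1
    · rw [B.pmap]; exact h3
  · intro x hx hxy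
    have hx' := hx
    rw [mem_comp] at hx
    obtain ⟨hxW, h1, h2, h3, h4⟩ := hx
    apply I.nd x hxW
    intro y hy
    have := hxy _ (proj_mem B I hu hw h hy)
    rw [polar_comm Q u] at h1
    rw [polar_comm] at h2 h3 h4
    simpa [polar_add_right, polar_smul_right, h1, h2, h3, h4] using this

theorem finrank_comp [FiniteDimensional K V] (b : V ≃ₗ[K] V) (W : Submodule K V) (u w : V) :
    finrank K W ≤ finrank K (comp Q b W u w) + 4 := by
  have h1 := finrank_cut (Q := Q) W u
  have h2 := finrank_cut (Q := Q) (cut Q W u) (b u)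
  have h3 := finrank_cut (Q := Q) (cut Q (cut Q W u) (b u)) w
  have h4 := finrank_cut (Q := Q) (cut Q (cut Q (cut Q W u) (b u)) w) (b w)
  unfold comp
  omega

theorem finrank_map_comp [FiniteDimensional K V] {b : V ≃ₗ[K] V} (B : BD Q b 0)
    {W : Submodule K V} (I : Inv Q b W) {u w : V} (hu : u ∈ W) (hw : w ∈ W) (h : Fr Q b u w) :
    finrank K (W.map (b.toLinearMap + LinearMap.id)) ≤
      finrank K ((comp Q b W u w).map (b.toLinearMap + LinearMap.id)) + 2 := by
  classical
  have hbb : ∀ x, b (b x) = x := fun x => by rw [B.bb, zero_smul, zero_add]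
  have h1 : W.map (b.toLinearMap + LinearMap.id) ≤
      (comp Q b W u w).map (b.toLinearMap + LinearMap.id) ⊔
        Submodule.span K (({b u + u, b w + w} : Finset V) : Set V) := by
    rintro _ ⟨y, hy, rfl⟩
    have hp := proj_mem B I hu hw h hy
    rw [Submodule.mem_sup]
    refine ⟨_, ⟨_, hp, rfl⟩, (polar Q (b w) y + polar Q w y) • (b u + u) +
      (polar Q (b u) y + polar Q u y) • (b w + w), ?_, ?_⟩
    · refine Submodule.add_mem _ (Submodule.smul_mem _ _ (Submodule.subset_span ?_))
        (Submodule.smul_mem _ _ (Submodule.subset_span ?_))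
      · simp
      · simp
    · simp only [LinearMap.add_apply, LinearMap.id_apply, LinearEquiv.coe_coe, map_add, map_smul, hbb]
      match_scalars
      all_goals first
        | ring1
        | linear_combination (polar Q (b w) y + polar Q w y) * two0 K
        | linear_combination (polar Q (b u) y + polar Q u y) * two0 K
  refine le_trans (Submodule.finrank_mono h1) (le_trans (Submodule.finrank_add_le_finrank_add_finrank _ _) ?_)
  refine Nat.add_le_add_left (le_trans (finrank_span_finset_le_card _) ?_) _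
  exact Finset.card_le_two

/-- orthogonality of two frames -/
structure Ort (Q : QuadraticForm K V) (b : V ≃ₗ[K] V) (u w u' w' : V) : Prop where
  uu : polar Q u u' = 0
  ubu : polar Q u (b u') = 0
  uw : polar Q u w' = 0
  ubw : polar Q u (b w') = 0
  wu : polar Q w u' = 0
  wbu : polar Q w (b u') = 0
  ww : polar Q w w' = 0
  wbw : polar Q w (b w') = 0

theorem Ort.symm {b : V ≃ₗ[K] V} {d : K} (B : BD Q b d) {u w u' w' : V} (h : Ort Q b u w u' w') :
    Ort Q b u' w' u w := by
  have key : ∀ x y, polar Q x y = 0 → polar Q x (b y) = 0 → polar Q y (b x) = 0 := by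
    intro x y h1 h2
    have := B.pl x y
    rw [h1, h2, mul_zero, zero_add, polar_comm] at this
    exact this
  exact ⟨by rw [polar_comm]; exact h.uu, key _ _ h.uu h.ubu, by rw [polar_comm]; exact h.wu,
    key _ _ h.wu h.wbu, by rw [polar_comm]; exact h.uw, key _ _ h.uw h.ubw,
    by rw [polar_comm]; exact h.ww, key _ _ h.ww h.wbw⟩

theorem frames [Finite K] [FiniteDimensional K V] {b : V ≃ₗ[K] V} {d : K} (B : BD Q b d) :
    ∀ (k : ℕ) (W : Submodule K V), Inv Q b W → (d ≠ 0 → 4 * k ≤ finrank K W) →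
    (d = 0 → 2 * k ≤ finrank K (W.map (b.toLinearMap + LinearMap.id))) →
    ∃ u w : Fin k → V, (∀ i, u i ∈ W ∧ w i ∈ W) ∧ (∀ i, Fr Q b (u i) (w i)) ∧
      (∀ i j, i ≠ j → Ort Q b (u i) (w i) (u j) (w j)) := by
  intro k
  induction k with
  | zero =>
    intro W _ _ _
    exact ⟨Fin.elim0, Fin.elim0, fun i => i.elim0, fun i => i.elim0, fun i => i.elim0⟩
  | succ k ih =>
    intro W I h1 h2
    have hu : ∃ u ∈ W, Q u = 0 ∧ ∀ c : K, b u ≠ c • u := by
      by_cases hd : d = 0
      · subst hd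
        refine exists_u_eq B I ?_
        by_contra hcon
        push Not at hcon
        have h3 := h2 rfl
        have h4 : W.map (b.toLinearMap + LinearMap.id) = ⊥ := by
          rw [eq_bot_iff]
          rintro _ ⟨v, hv, rfl⟩
          rw [Submodule.mem_bot, LinearMap.add_apply, LinearMap.id_apply, LinearEquiv.coe_coe, hcon v hv]
          exact dbl K v
        rw [h4, finrank_bot] at h3
        omega
      · have := h1 hd
        exact exists_u_ne B hd I (by omega)
    obtain ⟨u0, hu0, hQ0, hi⟩ := hu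
    obtain ⟨w0, hw0, hF⟩ := exists_fr B I hu0 hQ0 hi
    obtain ⟨u, w, h3, h4, h5⟩ := ih (comp Q b W u0 w0) (inv_comp B I hu0 hw0 hF) (by
      intro hd
      have h6 := h1 hd
      have h7 := finrank_comp (Q := Q) b W u0 w0
      omega) (by
      intro hd
      subst hd
      have h6 := h2 rfl
      have h7 := finrank_map_comp B I hu0 hw0 hF
      omega)
    have hI' := inv_comp B I hu0 hw0 hF
    have h0 : ∀ j, Ort Q b u0 w0 (u j) (w j) := by
      intro j
      obtain ⟨ha, hb⟩ := h3 j
      have ha' := mem_comp.1 (hI'.binv _ ha)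
      have hb' := mem_comp.1 (hI'.binv _ hb)
      rw [mem_comp] at ha hb
      exact ⟨ha.2.1, ha'.2.1, hb.2.1, hb'.2.1, ha.2.2.2.1, ha'.2.2.2.1, hb.2.2.2.1, hb'.2.2.2.1⟩
    refine ⟨Fin.cons u0 u, Fin.cons w0 w, ?_, ?_, ?_⟩
    · intro i
      refine Fin.cases ⟨hu0, hw0⟩ (fun i => ?_) i
      obtain ⟨ha, hb⟩ := h3 i
      exact ⟨(mem_comp.1 ha).1, (mem_comp.1 hb).1⟩
    · intro i
      refine Fin.cases hF (fun i => ?_) i
      exact h4 i
    · intro i j
      refine Fin.cases ?_ (fun i => ?_) i <;> refine Fin.cases ?_ (fun j => ?_) j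
      · intro h; exact absurd rfl h
      · intro _; exact h0 j
      · intro _; exact (h0 i).symm B
      · intro h
        exact h5 i j (fun e => h (by rw [e]))

end Cfsg.Agent.H411.Sz
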